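import Groth.Agent.Lib.PerfVanish.Thms
import Groth.Agent.Lib.Gen43.Glue
import Groth.Agent.Lib.Gen43.Affine
import Groth.Agent.Lib.GenBdd.Main

/-!
# Maps out of perfect objects into objects acyclic on affine opens
-/

set_option autoImplicit false
set_option linter.unusedSectionVars false
set_option linter.style.haveILetI false

universe u

open CategoryTheory Limits AlgebraicGeometry Pretriangulated

attribute [local instance] HasDerivedCategory.standard

namespace Groth.Agent.H56.DQBound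

open Groth.Agent.Lib.Perfect.Basic Groth.Agent.Lib.Perfect.Triangle Groth.Agent.Lib.DerivedOX
  Groth.Agent.Lib Groth.Agent.Lib.Gen43 Groth.Agent.Lib.Gen43.Glue

variable {X : Scheme.{u}}

/-- `H^i(U, K|_U) = 0`, written with maps out of `j_!𝒪`. -/
def NoHom (K : DCoh.D X) (U : X.Opens) (i : ℤ) : Prop :=
  ∀ ψ : (ez U.ι).obj (CompactUnit.oneD (U : Scheme.{u})) ⟶ K⟦i⟧, ψ = 0

lemma NoHom.shift {K : DCoh.D X} {U : X.Opens} {a i c : ℤ} (hc : a + i = c) (h : NoHom K U c) :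
    NoHom (K⟦a⟧) U i :=
  fun ψ => (cancel_mono ((shiftFunctorAdd' (DCoh.D X) a i c hc).inv.app K)).1
    ((h _).trans zero_comp.symm)

/-- No cohomology in positive degrees on the affine opens. -/
def Acyc (K : DCoh.D X) : Prop := ∀ U : X.Opens, IsAffineOpen U → ∀ i : ℤ, 0 < i → NoHom K U i

lemma eq_zero_restrict {K : DCoh.D X} {U : X.Opens} {i : ℤ} (h : NoHom K U i)
    (φ : CompactUnit.oneD (U : Scheme.{u}) ⟶ ((DCoh.restrictD U.ι).obj K)⟦i⟧) : φ = 0 := by
  apply (cancel_mono (((DCoh.restrictD U.ι).commShiftIso i).inv.app K)).1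
  rw [zero_comp]
  exact ((adjEz U.ι).homEquiv _ _).symm.injective ((h _).trans (h _).symm)

lemma eq_zero_range {K : DCoh.D X} {i : ℤ} {Y : Scheme.{u}} (j : Y ⟶ X) [IsOpenImmersion j]
    (h : NoHom K j.opensRange i) (φ : CompactUnit.oneD Y ⟶ ((RD j).obj K)⟦i⟧) : φ = 0 := by
  let k := j.isoOpensRange
  haveI : (RD k.inv).Faithful := PerfVanish.Affine.faithful_RD k.inv k.hom k.hom_inv_id
  apply (RD k.inv).map_injective
  rw [Functor.map_zero]
  let e : (RD k.inv).obj ((RD j).obj K) ≅ (RD j.opensRange.ι).obj K :=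
    (RDComp k.inv j K).symm ≪≫ RDCongr (j.isoOpensRange_inv_comp) K
  apply (cancel_epi (CompactUnit.restrictOneIso k.inv).inv).1
  rw [comp_zero]
  apply (cancel_mono (((RD k.inv).commShiftIso i).hom.app _ ≫ e.hom⟦i⟧')).1
  rw [zero_comp]
  exact eq_zero_restrict h _

variable (G : DCoh.D X)

/-- Uniform vanishing of maps out of `G` over `W`. -/
def Good (W : X.Opens) : Prop :=
  ∃ c : ℤ, ∀ (Y : Scheme.{u}) (j : Y ⟶ X) [IsOpenImmersion j], j.opensRange = W →
    ∀ K : DCoh.D X, Acyc K → ∀ i : ℤ, c ≤ i → ∀ φ : (RD j).obj G ⟶ ((RD j).obj K)⟦i⟧, φ = 0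

variable {G}

theorem good_affine (hG : DCoh.IsPerfect G) {W : X.Opens} (hW : IsAffineOpen W) : Good G W := by
  haveI : IsAffine (W : Scheme.{u}) := hW
  let C : ObjectProperty (DCoh.D (W : Scheme.{u})) := fun P =>
    ∃ c : ℤ, ∀ K : DCoh.D X, Acyc K → ∀ i : ℤ, c ≤ i →
      ∀ φ : P ⟶ ((RD W.ι).obj K)⟦i⟧, φ = 0
  have hC : C ((RD W.ι).obj G) := by
    refine Gen43.Affine.perfect_induction C (fun P hP => ⟨0, fun K _ i _ φ => hP.eq_of_src _ _⟩)
      (fun P L r ⟨c, hc⟩ => ⟨c, fun K hK i hi φ => ?_⟩)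
      (fun T hT ⟨c, hc⟩ ⟨c', hc'⟩ => ⟨max c c', fun K hK i hi φ => ?_⟩) (fun n => ⟨n + 1, ?_⟩)
      (Gen43.Restrict.isPerfect_restrict _ hG)
    · rw [← Category.id_comp φ, ← r.retract, Category.assoc, hc K hK i hi (r.r ≫ φ), comp_zero]
    · obtain ⟨g, rfl⟩ := Triangle.yoneda_exact₂ T hT φ (hc K hK i (by omega) _)
      rw [hc' K hK i (by omega) g, comp_zero]
    · intro K hK i hi
      refine (DerCat.Tri.hom_shift_left_eq_zero_iff _ _ n).2 fun f => ?_
      let e := (shiftFunctorAdd' (DCoh.D (W : Scheme.{u})) i (-n) (i - n) (by omega)).app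
        ((RD W.ι).obj K)
      apply (cancel_mono e.inv).1
      rw [zero_comp]
      exact eq_zero_restrict (hK W hW (i - n) (by omega)) _
  obtain ⟨c, hc⟩ := hC
  refine ⟨c, fun Y j _ hj K hK i hi φ => ?_⟩
  subst hj
  let k := j.isoOpensRange
  haveI : (RD k.inv).Faithful := PerfVanish.Affine.faithful_RD k.inv k.hom k.hom_inv_id
  apply (RD k.inv).map_injective
  rw [Functor.map_zero]
  let e : ∀ L, (RD k.inv).obj ((RD j).obj L) ≅ (RD j.opensRange.ι).obj L := fun L =>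
    (RDComp k.inv j L).symm ≪≫ RDCongr (j.isoOpensRange_inv_comp) L
  apply (cancel_epi (e G).inv).1
  rw [comp_zero]
  apply (cancel_mono (((RD k.inv).commShiftIso i).hom.app _ ≫ (e K).hom⟦i⟧')).1
  rw [zero_comp]
  exact hc K hK i hi _

theorem good_bot : Good G ⊥ := by
  refine ⟨0, fun Y j _ hj K _ i _ φ => ?_⟩
  refine (OpenSupport.isZero_of_restrictD (fun i : PEmpty.{1} => i.elim) ?_ _
    fun i => i.elim).eq_of_tgt _ _
  refine eq_top_iff.2 fun y _ => ?_
  exact ((show j y ∈ (⊥ : X.Opens) from hj ▸ ⟨y, rfl⟩) : False).elim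

/-- Mayer–Vietoris. -/
theorem good_sup {U V : X.Opens} (hU : Good G U) (hV : Good G V) (hI : Good G (U ⊓ V)) :
    Good G (U ⊔ V) := by
  obtain ⟨c₁, hU⟩ := hU
  obtain ⟨c₂, hV⟩ := hV
  obtain ⟨c₃, hI⟩ := hI
  refine ⟨max (max c₁ c₂) (c₃ + 1), fun Y j _ hj K hK i hi φ => ?_⟩
  have hr : ∀ {W : X.Opens}, W ≤ U ⊔ V → ((j ⁻¹ᵁ W).ι ≫ j).opensRange = W := fun {W} hW => by
    rw [Scheme.Hom.opensRange_comp, Scheme.Opens.opensRange_ι,
      Scheme.Hom.image_preimage_eq_opensRange_inf, hj, inf_eq_right.2 hW]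
  let U' := j ⁻¹ᵁ U
  let V' := j ⁻¹ᵁ V
  have hUV : U' ⊔ V' = ⊤ := by
    change j ⁻¹ᵁ (U ⊔ V) = ⊤
    rw [← hj, Scheme.Hom.preimage_opensRange]
  have hzero : ∀ (W : X.Opens) (c : ℤ), (∀ (Y : Scheme.{u}) (j : Y ⟶ X) [IsOpenImmersion j],
      j.opensRange = W → ∀ K : DCoh.D X, Acyc K → ∀ i : ℤ, c ≤ i →
        ∀ φ : (RD j).obj G ⟶ ((RD j).obj K)⟦i⟧, φ = 0) →
      W ≤ U ⊔ V → ∀ m : ℤ, c ≤ m →
      ∀ ψ : (CxOX.extZeroD (j ⁻¹ᵁ W).ι).obj ((DCoh.restrictD (j ⁻¹ᵁ W).ι).obj ((RD j).obj G)) ⟶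
        ((RD j).obj K)⟦m⟧, ψ = 0 := fun W c hW hle m hm ψ => by
    apply ((adjEz (j ⁻¹ᵁ W).ι).homEquiv _ _).injective
    have h0 : ∀ χ : (RD (j ⁻¹ᵁ W).ι).obj ((RD j).obj G) ⟶
        (RD (j ⁻¹ᵁ W).ι).obj (((RD j).obj K)⟦m⟧), χ = 0 := fun χ => by
      apply (cancel_epi (RDComp (j ⁻¹ᵁ W).ι j G).hom).1
      rw [comp_zero]
      apply (cancel_mono (((RD (j ⁻¹ᵁ W).ι).commShiftIso m).hom.app _ ≫
        (RDComp (j ⁻¹ᵁ W).ι j K).inv⟦m⟧')).1
      rw [zero_comp]
      exact hW _ _ (hr hle) K hK m hm _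
    exact (h0 _).trans (h0 _).symm
  obtain ⟨α, β, γ, hT⟩ := MVExtZero.exists_mv_triangle U' V' hUV ((RD j).obj G)
  have hβ : β ≫ φ = 0 := by
    apply biprod.hom_ext'
    · exact (hzero U c₁ hU le_sup_left i (by omega) _).trans comp_zero.symm
    · exact (hzero V c₂ hV le_sup_right i (by omega) _).trans comp_zero.symm
  obtain ⟨χ, hχ⟩ := Triangle.yoneda_exact₃ _ hT φ hβ
  have hχ0 : χ = 0 := by
    apply (shiftFunctor (DCoh.D Y) (-1 : ℤ)).map_injective
    rw [Functor.map_zero,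
      ← cancel_epi ((shiftFunctorCompIsoId (DCoh.D Y) (1 : ℤ) (-1) (by omega)).inv.app _), comp_zero]
    apply (cancel_mono
      ((shiftFunctorAdd' (DCoh.D Y) i (-1) (i - 1) (by omega)).inv.app ((RD j).obj K))).1
    rw [zero_comp]
    exact hzero (U ⊓ V) c₃ hI (inf_le_left.trans le_sup_left) (i - 1) (by omega) _
  rw [hχ, hχ0]
  exact comp_zero

theorem good_of_le (hG : DCoh.IsPerfect G) {W V : X.Opens} (hW : IsAffineOpen W)
    (hV : IsCompact (V : Set X)) (hVW : V ≤ W) : Good G V := by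
  classical
  have hs : ∀ (n : ℕ) (s : Finset Γ(X, W)), s.card ≤ n → Good G (s.sup fun f => X.basicOpen f) := by
    intro n
    induction n with
    | zero =>
      intro s hs
      rw [Finset.card_eq_zero.1 (Nat.le_zero.1 hs)]
      exact good_bot
    | succ n ih =>
      intro s hs
      rcases s.eq_empty_or_nonempty with rfl | ⟨g, hg⟩
      · exact good_bot
      have hc : (s.erase g).card ≤ n := by
        rw [Finset.card_erase_of_mem hg]; omega
      rw [← Finset.insert_erase hg, Finset.sup_insert, sup_comm]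
      refine good_sup (ih _ hc) (good_affine hG (hW.basicOpen g)) ?_
      have := ih ((s.erase g).image (· * g)) (Finset.card_image_le.trans hc)
      rw [Finset.sup_image] at this
      rw [Finset.sup_inf_distrib_right]
      simpa [Function.comp_def, Scheme.basicOpen_mul] using this
  obtain ⟨s, hs'⟩ := hV.elim_finite_subcover
    (fun f : { f : Γ(X, W) // X.basicOpen f ≤ V } => (X.basicOpen f.1 : Set X))
    (fun f => (X.basicOpen f.1).isOpen) fun x hx => by
      obtain ⟨f, hf, hxf⟩ := hW.exists_basicOpen_le ⟨x, hx⟩ (hVW hx)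
      exact Set.mem_iUnion.2 ⟨⟨f, hf⟩, hxf⟩
  have e : (s.image Subtype.val).sup (fun f => X.basicOpen f) = V := by
    rw [Finset.sup_image]
    refine le_antisymm (Finset.sup_le fun f _ => f.2) fun x hx => ?_
    obtain ⟨f, hf, hxf⟩ := Set.mem_iUnion₂.1 (hs' hx)
    exact Finset.le_sup (f := (fun f => X.basicOpen f) ∘ Subtype.val) hf hxf
  exact e ▸ hs _ _ le_rfl

theorem good_top [CompactSpace X] [QuasiSeparatedSpace X] (hG : DCoh.IsPerfect G) : Good G ⊤ :=
  compact_open_induction_on (P := fun S : X.Opens => Good G S) ⊤ isCompact_univ good_bot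
    fun S hS V ih => good_sup ih (good_affine hG V.2)
      (good_of_le hG V.2 (QuasiSeparatedSpace.inter_isCompact _ _ S.isOpen hS V.1.isOpen
        V.2.isCompact) inf_le_right)

/-- Maps out of a perfect object into an acyclic object vanish in large degrees. -/
theorem exists_bound [CompactSpace X] [QuasiSeparatedSpace X] (hG : DCoh.IsPerfect G) :
    ∃ c : ℤ, ∀ K : DCoh.D X, Acyc K → ∀ i : ℤ, c ≤ i → GenBdd.Hv G K i := by
  obtain ⟨c, hc⟩ := good_top hG
  refine ⟨c, fun K hK i hi φ => ?_⟩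
  haveI := PerfVanish.Affine.faithful_RD (𝟙 X) (𝟙 X) (Category.id_comp _)
  apply (RD (𝟙 X)).map_injective
  rw [Functor.map_zero]
  apply (cancel_mono (((RD (𝟙 X)).commShiftIso i).hom.app K)).1
  rw [zero_comp]
  exact hc X (𝟙 X) (Scheme.Hom.opensRange_of_isIso (𝟙 X)) K hK i hi _

end Groth.Agent.H56.DQBound
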