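import Groth.Agent.H56.DQBound.Basic
import Groth.Agent.H83.AmpleGen.GammaHom
import Groth.Agent.Lib.DerCat.ProdPlus
import Groth.Agent.Lib.WayOut.Bounded
import Mathlib.CategoryTheory.Shift.Adjunction

/-!
# The bound on the cohomology of the coherator of an acyclic object
-/

set_option autoImplicit false
set_option linter.unusedSectionVars false
set_option linter.style.haveILetI false

universe u

open CategoryTheory Limits AlgebraicGeometry Pretriangulated Filter

attribute [local instance] HasDerivedCategory.standard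

namespace Groth.Agent.H56.DQBound

open Groth.Agent.Lib Groth.Agent.Lib.DerivedOX Groth.Agent.Lib.Gen43.Glue

variable {X : Scheme.{u}}

theorem noHom_of_isZero (K : DCoh.D X) (U : X.Opens) [DCoh.HasRΓ (U : Scheme.{u})] (i : ℤ)
    (h : IsZero ((DerivedCategory.homologyFunctor AddCommGrpCat.{u} i).obj
      ((DCoh.RΓ (U : Scheme.{u})).obj ((DCoh.restrictD U.ι).obj K)))) : NoHom K U i := fun ψ => by
  apply ((adjEz U.ι).homEquiv _ _).injective
  have h0 : ∀ χ : CompactUnit.oneD (U : Scheme.{u}) ⟶ (DCoh.restrictD U.ι).obj (K⟦i⟧), χ = 0 :=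
    fun χ => by
      apply (cancel_mono (((DCoh.restrictD U.ι).commShiftIso i).hom.app K)).1
      rw [zero_comp]
      refine (DerCat.Tri.hom_shift_right_eq_zero_iff _ _ i).2 (fun f => ?_) _
      exact H83.AmpleGen.eq_zero_of_isZero_RΓ _ (-i) (by rwa [neg_neg]) f
  exact (h0 _).trans (h0 _).symm

/-- Global sections of a cycle give zero classes. -/
theorem homologyπ_app_eq_zero (C : CochainComplex X.Modules ℤ) (i : ℤ) (U : X.Opens)
    (h : NoHom (DerivedCategory.Q.obj C) U i) :
    ∀ z : Γ(C.cycles i, U.ι ''ᵁ ⊤), (C.homologyπ i).app (U.ι ''ᵁ ⊤) z = 0 := fun z => by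
  let O := Coh.structureModule (U : Scheme.{u})
  let t₀ : O ⟶ (Scheme.Modules.restrictFunctor U.ι).obj (C.cycles i) :=
    (ParaF.ResBij.homUnitEquivTop _).symm z
  let t : (CxOX.extZero U.ι).obj O ⟶ C.cycles i := ((CxOX.extZeroAdj U.ι).homEquiv _ _).symm t₀
  let S := (HomologicalComplex.single X.Modules (ComplexShape.up ℤ) i).obj ((CxOX.extZero U.ι).obj O)
  let f : S ⟶ C := HomologicalComplex.mkHomFromSingle (t ≫ C.iCycles i) (fun j _ => by simp)
  let eS : (ez U.ι).obj (CompactUnit.oneD (U : Scheme.{u})) ≅ (DerivedCategory.Q.obj S)⟦i⟧ :=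
    ((CxOX.extZero U.ι).mapDerivedCategorySingleFunctor 0).app O ≪≫
      ((DerivedCategory.singleFunctors X.Modules).shiftIso i 0 i (by omega)).symm.app _ ≪≫
      (shiftFunctor (DCoh.D X) i).mapIso ((DerivedCategory.singleFunctorIsoCompQ X.Modules i).app _)
  have hQ : DerivedCategory.Q.map f = 0 := by
    apply (shiftFunctor (DCoh.D X) i).map_injective
    rw [Functor.map_zero, ← cancel_epi eS.hom, comp_zero]
    exact h _
  have hH : HomologicalComplex.homologyMap f i = 0 := by
    have := (DerivedCategory.homologyFunctorFactors X.Modules i).hom.naturality f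
    rw [Functor.comp_map, hQ, Functor.map_zero, zero_comp] at this
    exact (cancel_epi ((DerivedCategory.homologyFunctorFactors X.Modules i).hom.app S)).1
      (this.symm.trans comp_zero.symm)
  have ht : t ≫ C.homologyπ i = 0 := by
    have h1 := HomologicalComplex.homologyπ_naturality f i
    rw [hH, comp_zero] at h1
    have h2 : HomologicalComplex.cyclesMap f i =
        (HomologicalComplex.singleObjCyclesSelfIso (ComplexShape.up ℤ) i _).hom ≫ t := by
      rw [← cancel_mono (C.iCycles i), HomologicalComplex.cyclesMap_i, Category.assoc]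
      simp [f, S, HomologicalComplex.singleObjCyclesSelfIso_hom]
    rw [h2, Category.assoc] at h1
    exact (cancel_epi (HomologicalComplex.singleObjCyclesSelfIso (ComplexShape.up ℤ) i _).hom).1
      (h1.symm.trans comp_zero.symm)
  have h3 : t₀ ≫ (Scheme.Modules.restrictFunctor U.ι).map (C.homologyπ i) = 0 := by
    apply ((CxOX.extZeroAdj U.ι).homEquiv _ _).symm.injective
    rw [Adjunction.homEquiv_naturality_right_symm]
    exact ht.trans (by rw [Adjunction.homEquiv_counit, Functor.map_zero, zero_comp])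
  have h4 := (ParaF.ResBij.homUnitEquivTop_comp (X := (U : Scheme.{u})) t₀ _).symm.trans
    (congrArg (ParaF.ResBij.homUnitEquivTop _) h3)
  rw [show ParaF.ResBij.homUnitEquivTop _ t₀ = z from Equiv.apply_symm_apply _ z] at h4
  exact h4.trans rfl

theorem isZero_HD_of_noHom (K : DCoh.D X) (i : ℤ)
    (h : ∀ U : X.Opens, IsAffineOpen U → NoHom K U i) : IsZero (DCoh.HD K i) := by
  let C := DerivedCategory.Q.objPreimage K
  let eC : DerivedCategory.Q.obj C ≅ K := DerivedCategory.Q.objObjPreimageIso K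
  refine IsZero.of_iso ?_ ((DerivedCategory.homologyFunctor X.Modules i).mapIso eC.symm ≪≫
    (DerivedCategory.homologyFunctorFactors X.Modules i).app C)
  have hepi : Epi (C.homologyπ i) :=
    Limits.epi_of_isColimit_cofork (C.homologyIsCokernel (i - 1) i (by simp))
  suffices hz : C.homologyπ i = 0 from (IsZero.iff_id_eq_zero _).2
    (hepi.left_cancellation (𝟙 _) 0 ((Category.comp_id _).trans (hz.trans comp_zero.symm)))
  ext U x
  refine TopCat.Presheaf.section_ext (F := (⟨_, (C.homology i).isSheaf⟩ : TopCat.Sheaf _ _)) U _ _ ?_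
  intro p hp
  obtain ⟨W, hW, hpW, hWU⟩ := TopologicalSpace.Opens.isBasis_iff_nbhd.1 X.isBasis_affineOpens hp
  have hW' : NoHom (DerivedCategory.Q.obj C) W i := fun ψ => by
    apply (cancel_mono (eC.hom⟦i⟧')).1
    rw [zero_comp]
    exact h W hW _
  let W' : X.Opens := W
  have hle : W'.ι ''ᵁ ⊤ ≤ U := (Scheme.Opens.ι_image_top W').le.trans hWU
  have hp' : p ∈ W'.ι ''ᵁ ⊤ := (Scheme.Opens.ι_image_top W').ge hpW
  have h1 := homologyπ_app_eq_zero C i W' hW' ((C.cycles i).presheaf.map (homOfLE hle).op x)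
  have h2 := ConcreteCategory.congr_hom ((C.homologyπ i).mapPresheaf.naturality (homOfLE hle).op) x
  simp only [Scheme.Modules.mapPresheaf_app, ConcreteCategory.comp_apply] at h2
  simp only [Scheme.Modules.Hom.zero_app, AddCommGrpCat.hom_zero, AddMonoidHom.zero_apply]
  erw [map_zero, ← TopCat.Presheaf.germ_res_apply _ (homOfLE hle) p hp', ← h2, h1, map_zero]

variable [(ObjectProperty.ι (DCoh.IsQCohD (X := X))).IsLeftAdjoint]

/-- The coherator. -/
noncomputable abbrev DQ (X : Scheme.{u}) [(ObjectProperty.ι (DCoh.IsQCohD (X := X))).IsLeftAdjoint] :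
    DCoh.D X ⥤ DCoh.DQCoh X :=
  (ObjectProperty.ι (DCoh.IsQCohD (X := X))).rightAdjoint

/-- The adjunction. -/
noncomputable abbrev adjDQ : ObjectProperty.ι (DCoh.IsQCohD (X := X)) ⊣ DQ X :=
  Adjunction.ofIsLeftAdjoint _

theorem eq_zero_of_counit {M : DCoh.D X} (hM : DCoh.IsQCohD M) {K : DCoh.D X}
    (h : ∀ g : M ⟶ K, g = 0) (φ : M ⟶ ((DQ X).obj K).obj) : φ = 0 := by
  let φ' : (⟨M, hM⟩ : DCoh.DQCoh X) ⟶ (DQ X).obj K := ObjectProperty.homMk φ
  have : φ' = 0 := (adjDQ.homEquiv _ _).symm.injective ((h _).trans (h _).symm)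
  exact congrArg (fun g => g.hom) this

/-- The lower bound. -/
theorem isZero_lower (K : DCoh.D X) (a : ℤ)
    (h : ∀ U : X.Opens, IsAffineOpen U → ∀ i : ℤ, i < a → NoHom K U i) (i : ℤ) (hi : i < a) :
    IsZero (DCoh.HD ((DQ X).obj K).obj i) := by
  let t : Triangulated.TStructure (DCoh.D X) := DerivedCategory.TStructure.t
  haveI : K.IsGE a := (DerivedCategory.isGE_iff K a).2 fun j hj =>
    isZero_HD_of_noHom K j fun U hU => h U hU j hj
  let E := ((DQ X).obj K).obj
  have h0 : (t.truncLTι a).app E = 0 := eq_zero_of_counit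
    (WayOut.Bounded.hasP_truncLT (P := WayOut.Scheme.qc X) ((DQ X).obj K).property a)
    (fun g => t.zero g (a - 1) a (by omega)) _
  haveI := WayOut.Bounded.isIso_homologyMap_truncLTι E a i hi
  refine (IsZero.iff_id_eq_zero _).2 ((cancel_epi
    ((DerivedCategory.homologyFunctor X.Modules i).map ((t.truncLTι a).app E))).1 ?_)
  refine (Category.comp_id _).trans ?_
  rw [h0, Functor.map_zero]
  exact comp_zero.symm

variable [CompactSpace X] [QuasiSeparatedSpace X]

/-- The upper bound for objects acyclic in positive degrees. -/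
theorem exists_upper : ∃ N : ℕ, ∀ K : DCoh.D X, Acyc K →
    ∀ i : ℤ, (N : ℤ) < i → IsZero (DCoh.HD ((DQ X).obj K).obj i) := by
  by_contra! hne
  choose K hK n hn hbad using hne
  have : HasProduct K := by
    choose I hI eI using fun j => RightDerived.exists_resFunctor_obj_iso (K j)
    haveI := fun j => hI j
    exact DerCat.ProdPlus.hasProduct_of_kInjective K I hI fun j =>
      (haveI := DerCat.HProd.isIso_counit (K j)
       (asIso ((RightDerived.resAdj _).counit.app (K j))).symm ≪≫
        DerivedCategory.Qh.mapIso (eI j).some.symm)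
  let P := ∏ᶜ K
  have hP : Acyc P := fun U hU i hi => (DerCat.Tri.hom_shift_right_eq_zero_iff _ _ i).2 fun f =>
    Pi.hom_ext _ _ fun j => by
      rw [zero_comp]
      exact (DerCat.Tri.hom_shift_right_eq_zero_iff _ _ i).1 (hK j U hU i hi) _
  obtain ⟨G, hG, hdet⟩ := GenBdd.exists_detecting GenBdd.shiftInv_atTop (GenBdd.pushZd_atTop (X := X))
  obtain ⟨c, hc⟩ := exists_bound hG
  have hv : ∀ᶠ i in atTop, GenBdd.Hv G ((DQ X).obj P).obj i := eventually_atTop.2 ⟨c, fun i hi => by
    refine (DerCat.Tri.hom_shift_right_eq_zero_iff _ _ i).2 fun f => ?_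
    refine eq_zero_of_counit (CompactUnit.qcD_shift G (-i) (Perfect.QCohD.isQCohD_of_isPerfect hG))
      (fun g => (DerCat.Tri.hom_shift_right_eq_zero_iff G P i).1 (hc P hP i hi) g) f⟩
  obtain ⟨b, hb⟩ := eventually_atTop.1 (hdet _ ((DQ X).obj P).property hv)
  obtain ⟨j, hj⟩ : ∃ j : ℕ, b ≤ j := ⟨b.toNat, Int.self_le_toNat b⟩
  let r : Retract (K j) P :=
    ⟨Pi.lift fun l => if h : j = l then eqToHom (congrArg K h) else 0, Pi.π K j, by simp⟩
  let r' := ((r.map (DQ X)).map (ObjectProperty.ι _)).map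
    (DerivedCategory.homologyFunctor X.Modules (n j))
  refine hbad j ((IsZero.iff_id_eq_zero _).2 ?_)
  exact r'.retract.symm.trans (by
    rw [(hb (n j) (by have := hn j; omega)).eq_of_tgt r'.i 0, zero_comp])

/-- The bound. -/
theorem exists_bound' [∀ U : X.Opens, DCoh.HasRΓ (U : Scheme.{u})] :
    ∃ N : ℕ, ∀ (K : DCoh.D X) (a b : ℤ),
      (∀ U : X.Opens, IsAffineOpen U → ∀ i : ℤ, (i < a ∨ b < i) →
        IsZero ((DerivedCategory.homologyFunctor AddCommGrpCat.{u} i).obj
          ((DCoh.RΓ (U : Scheme.{u})).obj ((DCoh.restrictD U.ι).obj K)))) →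
      ∀ i : ℤ, (i < a ∨ b + (N : ℤ) < i) → IsZero (DCoh.HD ((DQ X).obj K).obj i) := by
  obtain ⟨N, hN⟩ := exists_upper (X := X)
  refine ⟨N, fun K a b h i hi => ?_⟩
  rcases hi with hi | hi
  · exact isZero_lower K a (fun U hU j hj => noHom_of_isZero K U j (h U hU j (Or.inl hj))) i hi
  · have hK : Acyc (K⟦b⟧) := fun U hU j hj =>
      (noHom_of_isZero K U (b + j) (h U hU (b + j) (Or.inr (by omega)))).shift rfl
    letI : (DQ X).CommShift ℤ := (adjDQ (X := X)).rightAdjointCommShift ℤ
    let e : ((DQ X).obj (K⟦b⟧)).obj ≅ ((DQ X).obj K).obj⟦b⟧ :=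
      (ObjectProperty.ι _).mapIso (((DQ X).commShiftIso b).app K) ≪≫
        ((ObjectProperty.ι _).commShiftIso b).app _
    have hz := hN _ hK (i - b) (by omega)
    refine hz.of_iso ?_
    exact ((((DerivedCategory.homologyFunctor X.Modules 0).shiftIso b (i - b) i (by omega)).app
      ((DQ X).obj K).obj)).symm ≪≫
      (DerivedCategory.homologyFunctor X.Modules (i - b)).mapIso e.symm

end Groth.Agent.H56.DQBound
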